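import Groth.Agent.GmDual.K311.Fam

/-! A scheme representing the functor of homomorphisms into a commutative group is a commutative group. -/

set_option autoImplicit false
set_option linter.unusedSectionVars false
universe u

open CategoryTheory CategoryTheory.Limits AlgebraicGeometry Opposite MonoidalCategory CartesianMonoidalCategory
open CGrpSh MonObj

namespace K311.FamRep

open K829.Yon K311.Fam

variable (K : Precoverage Scheme.{u}) {S : Scheme.{u}} [(QuotSh.J K S).Subcanonical]
variable {G H : Over S} [GrpObj G] [IsCommMonObj G] [GrpObj H] [IsCommMonObj H]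

theorem exists_grp {A : Over S} (υ : G ⊗ A ⟶ H) (h : AutFam.RepresentsHom G H A υ) :
    ∃ (_ : GrpObj A) (_ : IsCommMonObj A) (θ : pts K A ≅ hom K G H),
      ∀ (T : Over S) (x : T ⟶ A), fam K (T := T) (θ.hom.hom.app (op T) (pt K x)) = G ◁ x ≫ υ := by
  let e : ∀ T : Over S, (T ⟶ A) → (hom K G H).obj.obj (op T) := fun T x => mk K (G ◁ x ≫ υ) (isHomFamily_comp _ h.1)
  have he : ∀ T : Over S, Function.Bijective (e T) := by
    intro T
    constructor
    · intro x y hxy
      have h1 := congrArg (fun z => fam K z) hxy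
      have h2 : G ◁ x ≫ υ = G ◁ y ≫ υ := (fam_mk K _ _).symm.trans (h1.trans (fam_mk K _ _))
      exact (h.2 T (G ◁ y ≫ υ) (isHomFamily_comp _ h.1)).unique h2 rfl
    · intro z
      obtain ⟨a, ha, -⟩ := h.2 T _ (isHomFamily_fam K z)
      exact ⟨a, fam_injective K ((fam_mk K _ _).trans ha)⟩
  obtain ⟨g, g', i, hi⟩ := K731.RepPts.exists_grpObj (hom K G H) A (fun T => Equiv.ofBijective _ (he T))
    (fun {T T'} f x => by
      apply fam_injective
      rw [fam_map]
      change fam K (mk K (G ◁ (f ≫ x) ≫ υ) (isHomFamily_comp _ h.1)) =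
        G ◁ f ≫ fam K (mk K (G ◁ x ≫ υ) (isHomFamily_comp _ h.1))
      rw [fam_mk, fam_mk, MonoidalCategory.whiskerLeft_comp, Category.assoc])
  refine ⟨g, g', i, fun T x => ?_⟩
  exact (congrArg (fun z : (hom K G H).obj.obj (op T) => fam K z) (hi T x)).trans
    (fam_mk K (G ◁ x ≫ υ) (isHomFamily_comp _ h.1))

end K311.FamRep
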