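import Groth.Agent.GmDual.K311.FamGL

/-! Characters of a closed subgroup of an affine commutative group extend over algebraically closed fields. -/

set_option autoImplicit false
universe u
open CategoryTheory MonoidalCategory CartesianMonoidalCategory MonObj GrpObj AlgebraicGeometry
open TensorProduct Opposite WithConv

noncomputable section

namespace K311.CharExt

open Groth.Agent.Books.AffBridge K778.CharDict K311.FamGL

variable {k : Type u} [Field k]

theorem exists_ext_alg {A B : Type u} [CommRing A] [CommRing B] [HopfAlgebra k A] [HopfAlgebra k B]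
    [Coalgebra.IsCocomm k A] [Coalgebra.IsCocomm k B] (f : A →ₐc[k] B) (hf : Function.Surjective f)
    (K : Type u) [Field K] [IsAlgClosed K] [Algebra k K]
    (χ : SpecOver k B ⊗ SpecOver k K ⟶ Red.Gm (Bs k))
    (hχ : AutFam.IsHomFamily (SpecOver k B) (Red.Gm (Bs k)) χ) :
    ∃ ψ : SpecOver k A ⊗ SpecOver k K ⟶ Red.Gm (Bs k), AutFam.IsHomFamily (SpecOver k A) (Red.Gm (Bs k)) ψ ∧
      specMap k (f : A →ₐ[k] B) ▷ SpecOver k K ≫ ψ = χ := by
  let F : K ⊗[k] A →ₐc[K] K ⊗[k] B := Bialgebra.TensorProduct.map (BialgHom.id K K) f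
  have hF : ∀ z, F z = Algebra.TensorProduct.map (AlgHom.id k K) (f : A →ₐ[k] B) z := by
    intro z
    induction z with
    | zero => rw [map_zero, map_zero]
    | add x y hx hy => rw [map_add, map_add, hx, hy]
    | tmul x y => rfl
  have hFs : Function.Surjective F := by
    intro z
    obtain ⟨w, hw⟩ := TensorProduct.map_surjective (g := (AlgHom.id k K).toLinearMap)
      (g' := (f : A →ₐ[k] B).toLinearMap) Function.surjective_id hf z
    exact ⟨w, (hF w).trans hw⟩
  obtain ⟨g, hg, hgh⟩ := K778.GroupLift.exists_lift F hFs (isGroupLike_ug hχ)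
  obtain ⟨ψ, hψ, hψg⟩ := exists_family hg
  refine ⟨ψ, hψ, ug_injective ?_⟩
  rw [ug_whiskerRight, hψg, ← hF]
  exact hgh

theorem exists_ext_spec (G T : Over (Bs k)) [GrpObj G] [IsCommMonObj G] [GrpObj T] [IsCommMonObj T] [IsAffine G.left]
    [IsAffine T.left] (j : T ⟶ G) [IsMonHom j] [IsClosedImmersion j.left]
    (K : Type u) [Field K] [IsAlgClosed K] [Algebra k K]
    (χ : T ⊗ SpecOver k K ⟶ Red.Gm (Bs k)) (hχ : AutFam.IsHomFamily T (Red.Gm (Bs k)) χ) :
    ∃ ψ : G ⊗ SpecOver k K ⟶ Red.Gm (Bs k), AutFam.IsHomFamily G (Red.Gm (Bs k)) ψ ∧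
      j ▷ SpecOver k K ≫ ψ = χ := by
  obtain ⟨A, B, _, _, _, _, eG, hG, eT, hT, φ, hφ, hA, hB⟩ := exists_chart G T j
  have h1 : IsClosedImmersion (specMap k (φ : A →ₐ[k] B)).left := by
    rw [hφ]
    change IsClosedImmersion (eT.inv.left ≫ j.left ≫ eG.hom.left)
    have a1 : IsIso eT.inv.left := inferInstanceAs (IsIso ((Over.forget _).map eT.inv))
    have a2 : IsIso eG.hom.left := inferInstanceAs (IsIso ((Over.forget _).map eG.hom))
    infer_instance
  have h2 : Function.Surjective φ := surjective_of_isClosedImmersion (φ : A →ₐ[k] B)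
  obtain ⟨ψ, hψ, hψχ⟩ := exists_ext_alg φ h2 K (eT.inv ▷ SpecOver k K ≫ χ) (Fam.isHomFamily_whiskerRight _ hχ)
  refine ⟨eG.hom ▷ SpecOver k K ≫ ψ, Fam.isHomFamily_whiskerRight _ hψ, ?_⟩
  have h3 : j ≫ eG.hom = eT.hom ≫ specMap k (φ : A →ₐ[k] B) := by
    rw [hφ, Iso.hom_inv_id_assoc]
  rw [← Category.assoc, ← comp_whiskerRight, h3, comp_whiskerRight, Category.assoc, hψχ, ← Category.assoc,
    ← comp_whiskerRight, Iso.hom_inv_id, id_whiskerRight, Category.id_comp]

/-- Characters of a closed subgroup extend over algebraically closed fields. -/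
theorem exists_ext (G T : Over (Bs k)) [GrpObj G] [IsCommMonObj G] [GrpObj T] [IsCommMonObj T] [IsAffine G.left]
    [IsAffine T.left] (j : T ⟶ G) [IsMonHom j] [IsClosedImmersion j.left]
    (K : Type u) [Field K] [IsAlgClosed K] (a : Spec (CommRingCat.of K) ⟶ Bs k)
    (χ : T ⊗ Over.mk a ⟶ Red.Gm (Bs k)) (hχ : AutFam.IsHomFamily T (Red.Gm (Bs k)) χ) :
    ∃ ψ : G ⊗ Over.mk a ⟶ Red.Gm (Bs k), AutFam.IsHomFamily G (Red.Gm (Bs k)) ψ ∧
      j ▷ Over.mk a ≫ ψ = χ := by
  obtain ⟨a, rfl⟩ := Spec.map_surjective a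
  let : Algebra k K := a.hom.toAlgebra
  exact exists_ext_spec G T j K χ hχ

end K311.CharExt
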