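import Groth.Agent.CGrpSh.K731.Basic
import Groth.Agent.Unram.K147.LQF
import Mathlib.AlgebraicGeometry.Morphisms.Etale
import Mathlib.AlgebraicGeometry.Sites.Fpqc
import Mathlib.AlgebraicGeometry.ResidueField
import Mathlib.FieldTheory.IsAlgClosed.AlgebraicClosure
import Mathlib.AlgebraicGeometry.Morphisms.QuasiFinite

/-! The geometric points of a scheme étale over a field form an fpqc covering. -/

set_option autoImplicit false
universe u

open CategoryTheory CategoryTheory.Limits AlgebraicGeometry Opposite

namespace K311.CoverEt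

instance : MorphismProperty.HasOfPostcompProperty
    @Flat.{u} (@LocallyOfFiniteType ⊓ @FormallyUnramified) := by
  rw [MorphismProperty.hasOfPostcompProperty_iff_le_diagonal]
  intro X Y f ⟨hft, hfu⟩
  exact inferInstanceAs <| Flat (pullback.diagonal f)

theorem flat_of_comp {X Y Z : Scheme.{u}} (f : X ⟶ Y) (g : Y ⟶ Z) [Flat (f ≫ g)] [Etale g] : Flat f :=
  MorphismProperty.of_postcomp _ (W' := @LocallyOfFiniteType ⊓ @FormallyUnramified) f g
    ⟨inferInstance, inferInstance⟩ ‹_›

/-- A morphism to the spectrum of a field is flat. -/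
theorem flat_of_field {k : Type u} [Field k] {X : Scheme.{u}} (f : X ⟶ Spec (CommRingCat.of k)) : Flat f := by
  infer_instance

variable {k : Type u} [Field k] {X : Scheme.{u}} (f : X ⟶ Spec (CommRingCat.of k)) [Etale f]

include f in
theorem finite_of_isAffineOpen {U : X.Opens} (hU : IsAffineOpen U) : (U : Set X).Finite := by
  have : IsAffine U.toScheme := hU
  have h1 : Etale (U.ι ≫ f) := inferInstance
  have h2 : LocallyQuasiFinite (U.ι ≫ f) := K147.LQF.locallyQuasiFinite_of_etale _
  have h3 : (Set.univ : Set U.toScheme).Finite := by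
    have h4 : Finite (Spec (CommRingCat.of k)) := inferInstanceAs (Finite (PrimeSpectrum k))
    exact (U.ι ≫ f).finite_preimage (s := Set.univ) Set.finite_univ
  have h5 : (U : Set X) = U.ι '' Set.univ := by
    rw [Set.image_univ, Scheme.Opens.range_ι]
  rw [h5]
  exact h3.image _

/-- The geometric point over `x`. -/
noncomputable def gpt (X : Scheme.{u}) (x : X) : Spec (CommRingCat.of (AlgebraicClosure (X.residueField x))) ⟶ X :=
  Spec.map (CommRingCat.ofHom (algebraMap (X.residueField x) (AlgebraicClosure (X.residueField x)))) ≫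
    X.fromSpecResidueField x

theorem gpt_apply (X : Scheme.{u}) (x : X) (y : Spec (CommRingCat.of (AlgebraicClosure (X.residueField x)))) :
    gpt X x y = x := by
  have h : X.fromSpecResidueField x (Spec.map (CommRingCat.ofHom (algebraMap (X.residueField x)
      (AlgebraicClosure (X.residueField x)))) y) ∈ Set.range (X.fromSpecResidueField x) := ⟨_, rfl⟩
  rw [X.range_fromSpecResidueField] at h
  rw [gpt, Scheme.Hom.comp_apply]
  exact h

instance (x : X) : Nonempty (Spec (CommRingCat.of (AlgebraicClosure (X.residueField x)))) :=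
  inferInstanceAs (Nonempty (PrimeSpectrum (AlgebraicClosure (X.residueField x))))

theorem range_gpt (x : X) : Set.range (gpt X x) = {x} := by
  ext z
  constructor
  · rintro ⟨y, rfl⟩
    exact gpt_apply X x y
  · rintro rfl
    obtain ⟨y⟩ : Nonempty (Spec (CommRingCat.of (AlgebraicClosure (X.residueField z)))) := inferInstance
    exact ⟨y, gpt_apply X z y⟩

include f in
theorem ofArrows_mem : Presieve.ofArrows (fun x : X => Spec (CommRingCat.of (AlgebraicClosure (X.residueField x))))
    (fun x => gpt X x) ∈ Scheme.fpqcPrecoverage X := by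
  refine ⟨?_, ?_⟩
  · let E : PreZeroHypercover.{u} X := { I₀ := X, X := _, f := fun x => gpt X x }
    have hE : QuasiCompactCover E := ⟨fun {U} hU => by
      refine ⟨(U : Set X), finite_of_isAffineOpen f hU, fun i _ => ⊤, fun i _ => ?_, ?_⟩
      · exact isCompact_univ
      · ext z
        simp only [Set.mem_iUnion]
        constructor
        · rintro ⟨i, hi, y, -, rfl⟩
          have : gpt X i y = i := gpt_apply X i y
          change gpt X i y ∈ (U : Set X)
          rw [this]
          exact hi
        · intro hz
          obtain ⟨y⟩ : Nonempty (Spec (CommRingCat.of (AlgebraicClosure (X.residueField z)))) := inferInstance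
          exact ⟨z, hz, y, trivial, gpt_apply X z y⟩⟩
    exact Scheme.presieve₀_mem_qcPrecoverage_iff.2 hE
  · rw [Scheme.ofArrows_mem_precoverage_iff]
    refine ⟨fun x => ⟨x, ?_⟩, fun x => ?_⟩
    · rw [range_gpt]
      rfl
    · have : Flat (gpt X x ≫ f) := flat_of_field _
      exact flat_of_comp _ f

end K311.CoverEt
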