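import Groth.Agent.GmDual.K311.Fam
import Groth.Agent.AbSch.K453.HomShEx
import Groth.Prelude.Def_AlgGrp
import Mathlib.AlgebraicGeometry.Morphisms.Flat

/-! Exactness of the dual of a kernel sequence on the fpqc site. -/

set_option autoImplicit false
set_option linter.unusedSectionVars false
universe u

open CategoryTheory CategoryTheory.Limits AlgebraicGeometry Opposite MonoidalCategory CartesianMonoidalCategory
open CGrpSh MonObj

namespace K311.DualEx

open K829.Yon K311.Fam K453.HomShEx HomSh

variable {S : Scheme.{u}} {F G H : Over S} [GrpObj F] [IsCommMonObj F] [GrpObj G] [IsCommMonObj G] [GrpObj H]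
  [IsCommMonObj H]

/-- A faithfully flat quasi-compact homomorphism with its kernel gives a short exact sequence of fpqc sheaves. -/
theorem shortExact_of_isKernel
    (f : F ⟶ G) (p : G ⟶ H) [IsMonHom f] [IsMonHom p] [Flat p.left] [Surjective p.left]
    [QuasiCompact p.left]
    (hker : AlgGrp.IsKernel f p) (w : f ≫ p = 1) :
    (CGrpSh.seq Scheme.fpqcPrecoverage f p w).ShortExact := by
  refine ShortComplex.ShortExact.mk' ?_ ?_ ?_
  · apply K731.Basic.exact_of_sections
    intro T x hx
    have hx' : x.down.toMul ≫ p = 1 := congrArg (fun z => z.down.toMul) hx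
    have h2 : x.down.toMul ≫ p = toUnit T ≫ η[H] := by
      rw [hx', Hom.one_def]
    refine ⟨ULift.up (Additive.ofMul (hker.lift _ _ h2)), ?_⟩
    apply ULift.ext
    change Additive.ofMul (hker.lift _ _ h2 ≫ f) = _
    rw [hker.lift_fst]
    rfl
  · apply K731.Basic.mono_of_injective
    intro T x y hxy
    have h1 : x.down.toMul ≫ f = y.down.toMul ≫ f := congrArg (fun z => z.down.toMul) hxy
    have h2 : x.down.toMul = y.down.toMul := hker.hom_ext h1 (toUnit_unique _ _)
    exact ULift.ext _ _ h2
  · apply K731.Basic.epi_of_exists_cover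
    intro T b
    let t : T ⟶ H := b.down.toMul
    refine ⟨Presieve.singleton (pullback.fst t.left p.left), Scheme.Hom.singleton_mem_fpqcPrecoverage _, ?_⟩
    rintro Y _ ⟨⟩
    let s : Over.mk (pullback.fst t.left p.left ≫ T.hom) ⟶ G := Over.homMk (pullback.snd t.left p.left) (by
      have h1 := Over.w p
      have h2 := Over.w t
      rw [← h1, ← pullback.condition_assoc, h2]
      rfl)
    refine ⟨ULift.up (Additive.ofMul s), ?_⟩
    apply ULift.ext
    change Additive.ofMul (s ≫ p) = Additive.ofMul ((Over.homMk (pullback.fst t.left p.left) :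
      Over.mk (pullback.fst t.left p.left ≫ T.hom) ⟶ T) ≫ t)
    congr 1
    ext1
    exact pullback.condition.symm

/-- A homomorphism of abelian sheaves to a representable one is an epimorphism if the universal section lifts on a
covering family. -/
theorem epi_of_universal {K : Precoverage Scheme.{u}} [(QuotSh.J K S).Subcanonical] {B : BigSite.Ab K S}
    {X : Over S} [GrpObj X] [IsCommMonObj X] (φ : B ⟶ pts K X) {P : Presieve X.left} (hP : P ∈ K X.left)
    (h : ∀ ⦃Y : Scheme.{u}⦄ (f : Y ⟶ X.left), P f → ∃ a : B.obj.obj (op (Over.mk (f ≫ X.hom))),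
      φ.hom.app _ a = pt K (Over.homMk f : Over.mk (f ≫ X.hom) ⟶ X)) : Epi φ := by
  apply K731.Basic.epi_of_exists_lift
  intro T b
  let t : T ⟶ X := b.down.toMul
  refine ⟨Sieve.pullback t ((Sieve.overEquiv X).symm (Sieve.generate P)),
    (QuotSh.J K S).pullback_stable t (K731.Basic.mem_J_of_mem hP), ?_⟩
  rintro Y f ⟨W, g, q, hq, hgq⟩
  obtain ⟨a, ha⟩ := h q hq
  change Y.left ⟶ W at g
  replace hgq : g ≫ q = (f ≫ t).left := hgq
  let g' : Y ⟶ Over.mk (q ≫ X.hom) := Over.homMk g (by
    have := Over.w (f ≫ t)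
    rw [← this, ← hgq, Category.assoc]
    rfl)
  have hg' : g' ≫ Over.homMk q = f ≫ t := by
    ext1
    exact hgq
  refine ⟨B.obj.map g'.op a, ?_⟩
  have e1 : φ.hom.app (op Y) (B.obj.map g'.op a) = (pts K X).obj.map g'.op (φ.hom.app _ a) :=
    ConcreteCategory.congr_hom (φ.hom.naturality g'.op) a
  rw [e1, ha, map_pt, hg']
  rfl

omit [GrpObj G] [IsCommMonObj G] [GrpObj H] [IsCommMonObj H] [GrpObj F] [IsCommMonObj F] in
theorem epi_left (p : G ⟶ H) [Flat p.left] [Surjective p.left] : Epi p := by
  have : Epi p.left := Flat.epi_of_flat_of_surjective _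
  exact Over.epi_of_epi_left p

omit [GrpObj F] [IsCommMonObj F] [GrpObj G] [IsCommMonObj G] [IsCommMonObj H] in
theorem isCommMonObj_of_pts (h : ∀ (X : Over S) (a b : X ⟶ H), a * b = b * a) : IsCommMonObj H where
  mul_comm := by
    have h1 := h (H ⊗ H) (fst H H) (snd H H)
    have h2 : (fst H H * snd H H : H ⊗ H ⟶ H) = μ := by
      rw [Hom.mul_def, lift_fst_snd, Category.id_comp]
    have h3 : (snd H H * fst H H : H ⊗ H ⟶ H) = (β_ H H).hom ≫ μ := by
      rw [Hom.mul_def]
      congr 1
    rw [← h3, ← h1, h2]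

omit [GrpObj G] [IsCommMonObj G] [GrpObj H] [IsCommMonObj H] [GrpObj F] [IsCommMonObj F] in
/-- A local section of a flat surjective morphism. -/
theorem exists_local (p : G ⟶ H) [Flat p.left] [Surjective p.left] {X : Over S} (a : X ⟶ H) :
    ∃ (X' : Over S) (π : X' ⟶ X) (g : X' ⟶ G), Epi π ∧ π ≫ a = g ≫ p := by
  let X' : Over S := Over.mk (pullback.fst a.left p.left ≫ X.hom)
  let π : X' ⟶ X := Over.homMk (pullback.fst a.left p.left) rfl
  let g : X' ⟶ G := Over.homMk (pullback.snd a.left p.left) (by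
      have h1 := Over.w p
      have h2 := Over.w a
      rw [← h1, ← pullback.condition_assoc, h2]
      rfl)
  have h1 : Epi π.left := by
    change Epi (pullback.fst a.left p.left)
    exact Flat.epi_of_flat_of_surjective _
  refine ⟨X', π, g, Over.epi_of_epi_left π, ?_⟩
  ext1
  exact pullback.condition

omit [IsCommMonObj H] [GrpObj F] [IsCommMonObj F] in
theorem isCommMonObj_of_flat (p : G ⟶ H) [IsMonHom p] [Flat p.left] [Surjective p.left] : IsCommMonObj H := by
  refine isCommMonObj_of_pts fun X a b => ?_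
  obtain ⟨X₁, π₁, g₁, h₁, e₁⟩ := exists_local p a
  obtain ⟨X₂, π₂, g₂, h₂, e₂⟩ := exists_local p (π₁ ≫ b)
  rw [← cancel_epi π₁, ← cancel_epi π₂]
  rw [MonObj.comp_mul, MonObj.comp_mul, MonObj.comp_mul, MonObj.comp_mul, e₁, e₂, ← Category.assoc, ← MonObj.mul_comp,
    ← MonObj.mul_comp]
  congr 1
  exact _root_.mul_comm _ _

end K311.DualEx
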