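import Groth.Agent.TateGlob.K829.Yon
import Groth.Agent.CGrpSh.K731.RepPts
import Groth.Prelude.Def_AutFam

/-! Families of homomorphisms `G ⊗ T ⟶ H` and sections over `T` of the internal Hom of the sheaves of points. -/

set_option autoImplicit false
set_option linter.unusedSectionVars false
universe u

open CategoryTheory CategoryTheory.Limits AlgebraicGeometry Opposite MonoidalCategory CartesianMonoidalCategory
open CGrpSh MonObj

namespace K311.Fam

open K829.Yon

section basic

variable {S : Scheme.{u}} {G H : Over S} [GrpObj G] [GrpObj H]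

theorem lift_one_comp {T : Over S} {φ : G ⊗ T ⟶ H} (hφ : AutFam.IsHomFamily G H φ) {X : Over S} (t : X ⟶ T) :
    lift (1 : X ⟶ G) t ≫ φ = 1 := by
  have h := hφ X 1 1 t
  have h1 : (1 : X ⟶ G) * 1 = 1 := _root_.mul_one _
  rw [h1] at h
  exact (mul_eq_left.mp h.symm)

theorem isHomFamily_comp {T T' : Over S} (g : T' ⟶ T) {φ : G ⊗ T ⟶ H} (hφ : AutFam.IsHomFamily G H φ) :
    AutFam.IsHomFamily G H (G ◁ g ≫ φ) := by
  intro X g₁ g₂ t
  have e : ∀ h : X ⟶ G, lift h t ≫ G ◁ g ≫ φ = lift h (t ≫ g) ≫ φ := fun h => by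
    rw [← Category.assoc, lift_whiskerLeft]
  rw [e, e, e]
  exact hφ X g₁ g₂ _

omit [GrpObj G] in
theorem whiskerLeft_mul {D : Over S} [GrpObj D] (υ : G ⊗ D ⟶ H)
    (hmul : ∀ (X : Over S) (h : X ⟶ G) (a b : X ⟶ D), lift h (a * b) ≫ υ = (lift h a ≫ υ) * (lift h b ≫ υ))
    {T : Over S} (a b : T ⟶ D) : G ◁ (a * b) ≫ υ = (G ◁ a ≫ υ) * (G ◁ b ≫ υ) := by
  have e : ∀ d : T ⟶ D, G ◁ d ≫ υ = lift (fst G T) (snd G T ≫ d) ≫ υ := fun d => by
    congr 1
  rw [e, e, e, ← hmul, MonObj.comp_mul]

/-- Families of homomorphisms restricted along a homomorphism. -/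
theorem isHomFamily_whiskerRight {G' : Over S} [GrpObj G'] (j : G' ⟶ G) [IsMonHom j] {T : Over S} {φ : G ⊗ T ⟶ H}
    (hφ : AutFam.IsHomFamily G H φ) : AutFam.IsHomFamily G' H (j ▷ T ≫ φ) := by
  intro X g₁ g₂ t
  have e : ∀ h : X ⟶ G', lift h t ≫ j ▷ T ≫ φ = lift (h ≫ j) t ≫ φ := fun h => by
    rw [← Category.assoc, lift_whiskerRight]
  rw [e, e, e, MonObj.mul_comp]
  exact hφ X _ _ _

end basic

variable (K : Precoverage Scheme.{u}) {S : Scheme.{u}} [(QuotSh.J K S).Subcanonical]
variable {G H : Over S} [GrpObj G] [IsCommMonObj G] [GrpObj H] [IsCommMonObj H]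

variable (G H) in
/-- The internal Hom. -/
noncomputable abbrev hom : BigSite.Ab K S := HomSh.homSh (QuotSh.J K S) (pts K G) (pts K H)

/-- The section of `𝓗om(G, H)` over `T` attached to a family. -/
noncomputable def mk {T : Over S} (φ : G ⊗ T ⟶ H) (hφ : AutFam.IsHomFamily G H φ) : (hom K G H).obj.obj (op T) :=
  show (pts K G).over T ⟶ (pts K H).over T from
  ⟨{ app := fun U => AddCommGrpCat.ofHom
      { toFun := fun x => pt K (lift (Additive.toMul x.down) (unop U).hom ≫ φ)
        map_zero' := by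
          apply ULift.ext
          exact congrArg Additive.ofMul (lift_one_comp hφ _)
        map_add' := fun x y => by
          apply ULift.ext
          exact congrArg Additive.ofMul (hφ _ _ _ _) }
     naturality := fun U V f => by
      refine AddCommGrpCat.ext fun x => ?_
      apply ULift.ext
      apply congrArg Additive.ofMul
      change lift (f.unop.left ≫ Additive.toMul x.down) (unop V).hom ≫ φ =
        f.unop.left ≫ lift (Additive.toMul x.down) (unop U).hom ≫ φ
      rw [← Category.assoc, comp_lift]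
      congr 2
      exact (Over.w f.unop).symm }⟩

/-- The family attached to a section. -/
noncomputable def fam {T : Over S} (x : (hom K G H).obj.obj (op T)) : G ⊗ T ⟶ H :=
  Additive.toMul (val K (show (pts K G).over T ⟶ (pts K H).over T from x)).down

theorem fam_mk {T : Over S} (φ : G ⊗ T ⟶ H) (hφ : AutFam.IsHomFamily G H φ) : fam K (mk K φ hφ) = φ := by
  change lift (fst G T) (snd G T) ≫ φ = _
  rw [lift_fst_snd, Category.id_comp]

theorem lift_fam {T : Over S} (x : (hom K G H).obj.obj (op T)) {X : Over S} (g : X ⟶ G) (t : X ⟶ T) :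
    pt K (lift g t ≫ fam K x) =
      (show (pts K G).over T ⟶ (pts K H).over T from x).hom.app (op (Over.mk t)) (pt K g) :=
  (app_eq K (show (pts K G).over T ⟶ (pts K H).over T from x) (Over.mk t) g).symm

theorem isHomFamily_fam {T : Over S} (x : (hom K G H).obj.obj (op T)) :
    AutFam.IsHomFamily G H (fam K x) := by
  intro X g₁ g₂ t
  have h := map_add ((show (pts K G).over T ⟶ (pts K H).over T from x).hom.app (op (Over.mk t))).hom
    (pt K g₁) (pt K g₂)
  have h2 : pt K (lift (g₁ * g₂) t ≫ fam K x) = pt K (lift g₁ t ≫ fam K x) + pt K (lift g₂ t ≫ fam K x) :=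
    (lift_fam K x _ t).trans (h.trans (congrArg₂ (· + ·) (lift_fam K x _ t).symm (lift_fam K x _ t).symm))
  exact congrArg (fun z : (pts K H).obj.obj (op X) => Additive.toMul z.down) h2

theorem fam_injective {T : Over S} {x y : (hom K G H).obj.obj (op T)} (h : fam K x = fam K y) : x = y := by
  apply val_injective K (show (pts K G).over T ⟶ (pts K H).over T from x)
    (show (pts K G).over T ⟶ (pts K H).over T from y)
  exact congrArg (pt K) h

theorem mk_fam {T : Over S} (x : (hom K G H).obj.obj (op T)) : mk K (fam K x) (isHomFamily_fam K x) = x := by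
  apply fam_injective
  rw [fam_mk]

theorem fam_add {T : Over S} (x y : (hom K G H).obj.obj (op T)) : fam K (x + y) = fam K x * fam K y := rfl

theorem fam_zero {T : Over S} : fam K (0 : (hom K G H).obj.obj (op T)) = 1 := rfl

theorem fam_map {T T' : Over S} (g : T' ⟶ T) (x : (hom K G H).obj.obj (op T)) :
    fam K ((hom K G H).obj.map g.op x) = G ◁ g ≫ fam K x :=
  congrArg (fun z : (pts K H).obj.obj (op (G ⊗ T')) => Additive.toMul z.down) (val_map K g x)

/-- The morphism `D ⟶ 𝓗om(G, H)` attached to a bimultiplicative pairing `G ⊗ D ⟶ H`. -/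
noncomputable def pairHom {D : Over S} [GrpObj D] [IsCommMonObj D] (υ : G ⊗ D ⟶ H) (hυ : AutFam.IsHomFamily G H υ)
    (hmul : ∀ (X : Over S) (h : X ⟶ G) (a b : X ⟶ D), lift h (a * b) ≫ υ = (lift h a ≫ υ) * (lift h b ≫ υ)) :
    pts K D ⟶ hom K G H :=
  ⟨{ app := fun T => AddCommGrpCat.ofHom (AddMonoidHom.mk'
      (fun x => mk K (G ◁ (Additive.toMul x.down) ≫ υ) (isHomFamily_comp _ hυ))
      (fun x y => by
        refine fam_injective K (T := unop T) ((fam_mk K _ _).trans ?_)
        refine Eq.trans ?_ (fam_add K (mk K (G ◁ (Additive.toMul x.down) ≫ υ) (isHomFamily_comp _ hυ))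
          (mk K (G ◁ (Additive.toMul y.down) ≫ υ) (isHomFamily_comp _ hυ))).symm
        rw [fam_mk, fam_mk]
        exact whiskerLeft_mul υ hmul _ _))
     naturality := fun T T' f => by
      refine AddCommGrpCat.ext fun x => ?_
      refine fam_injective K ?_
      refine (fam_mk K (G ◁ (f.unop ≫ Additive.toMul x.down) ≫ υ) (isHomFamily_comp _ hυ)).trans ?_
      refine Eq.trans ?_ (fam_map K f.unop _).symm
      rw [MonoidalCategory.whiskerLeft_comp, Category.assoc]
      exact congrArg (fun z => G ◁ f.unop ≫ z)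
        (fam_mk K (G ◁ (Additive.toMul x.down) ≫ υ) (isHomFamily_comp _ hυ)).symm }⟩

theorem fam_pairHom {D : Over S} [GrpObj D] [IsCommMonObj D] (υ : G ⊗ D ⟶ H) (hυ : AutFam.IsHomFamily G H υ)
    (hmul : ∀ (X : Over S) (h : X ⟶ G) (a b : X ⟶ D), lift h (a * b) ≫ υ = (lift h a ≫ υ) * (lift h b ≫ υ))
    {T : Over S} (x : T ⟶ D) :
    fam K (T := T) ((pairHom K υ hυ hmul).hom.app (op T) (pt K x)) = G ◁ x ≫ υ :=
  fam_mk K (G ◁ x ≫ υ) (isHomFamily_comp _ hυ)

theorem isIso_of_bijective {A B : BigSite.Ab K S} (f : A ⟶ B)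
    (hb : ∀ T : (Over S)ᵒᵖ, Function.Bijective (f.hom.app T)) : IsIso f := by
  have h1 : ∀ T : (Over S)ᵒᵖ, IsIso (f.hom.app T) := fun T => by
    have h3 : IsIso ((forget AddCommGrpCat.{u + 1}).map (f.hom.app T)) :=
      (isIso_iff_bijective _).2 (hb T)
    exact isIso_of_reflects_iso _ (forget AddCommGrpCat.{u + 1})
  have h2 : IsIso f.hom := (NatTrans.isIso_iff_isIso_app _).2 h1
  have h3 : IsIso ((sheafToPresheaf (QuotSh.J K S) AddCommGrpCat.{u + 1}).map f) := h2
  exact isIso_of_reflects_iso _ (sheafToPresheaf (QuotSh.J K S) AddCommGrpCat.{u + 1})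

theorem bijective_of_isIso {A B : BigSite.Ab K S} (f : A ⟶ B) [IsIso f] (T : (Over S)ᵒᵖ) :
    Function.Bijective (f.hom.app T) := by
  have h3 : IsIso (f.hom.app T) := by
    have : IsIso f.hom := inferInstanceAs (IsIso ((sheafToPresheaf _ _).map f))
    infer_instance
  exact (isIso_iff_bijective ((forget AddCommGrpCat.{u + 1}).map (f.hom.app T))).1 inferInstance

/-- `D` with `υ` represents the functor of homomorphisms: then its sheaf of points is the internal Hom. -/
theorem isIso_pairHom {D : Over S} [GrpObj D] [IsCommMonObj D] (υ : G ⊗ D ⟶ H)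
    (h : AutFam.RepresentsHom G H D υ)
    (hmul : ∀ (X : Over S) (h : X ⟶ G) (a b : X ⟶ D), lift h (a * b) ≫ υ = (lift h a ≫ υ) * (lift h b ≫ υ)) :
    IsIso (pairHom K υ h.1 hmul) := by
  apply isIso_of_bijective
  intro T
  have key : ∀ x : (pts K D).obj.obj T, fam K (T := unop T) ((pairHom K υ h.1 hmul).hom.app T x) =
      G ◁ (Additive.toMul x.down : unop T ⟶ D) ≫ υ := fun x => fam_pairHom K υ h.1 hmul _
  constructor
  · intro x y hxy
    have h1 := congrArg (fun z : (hom K G H).obj.obj (op (unop T)) => fam K z) hxy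
    have h2 := (h.2 (unop T) _ (isHomFamily_fam K (T := unop T) ((pairHom K υ h.1 hmul).hom.app T y))).unique
        ((key x).symm.trans h1) (key y).symm
    exact congrArg (pt K) h2
  · intro z
    obtain ⟨a, ha, -⟩ := h.2 (unop T) _ (isHomFamily_fam K (T := unop T) z)
    refine ⟨pt K a, fam_injective K (T := unop T) ?_⟩
    exact (fam_pairHom K υ h.1 hmul a).trans ha

theorem nat_iso {D : Over S} [GrpObj D] [IsCommMonObj D] (θ : pts K D ⟶ hom K G H) (T : Over S) (x : T ⟶ D) :
    fam K (T := T) (θ.hom.app (op T) (pt K x)) = G ◁ x ≫ fam K (T := D) (θ.hom.app (op D) (pt K (𝟙 D))) := by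
  have h1 : pt K x = (pts K D).obj.map x.op (pt K (𝟙 D)) := by
    rw [map_pt, Category.comp_id]
  have h2 : θ.hom.app (op T) (pt K x) = (hom K G H).obj.map x.op (θ.hom.app (op D) (pt K (𝟙 D))) := by
    rw [h1]
    exact ConcreteCategory.congr_hom (θ.hom.naturality x.op) (pt K (𝟙 D))
  rw [h2]
  exact fam_map K x (θ.hom.app (op D) (pt K (𝟙 D)))

/-- The universal pairing of a morphism `D ⟶ 𝓗om(G, H)`. -/
noncomputable def upair {D : Over S} [GrpObj D] [IsCommMonObj D] (θ : pts K D ⟶ hom K G H) : G ⊗ D ⟶ H :=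
  fam K (T := D) (θ.hom.app (op D) (pt K (𝟙 D)))

theorem upair_mul {D : Over S} [GrpObj D] [IsCommMonObj D] (θ : pts K D ⟶ hom K G H)
    (X : Over S) (h : X ⟶ G) (a b : X ⟶ D) :
    lift h (a * b) ≫ upair K θ = (lift h a ≫ upair K θ) * (lift h b ≫ upair K θ) := by
  have e : ∀ d : X ⟶ D, lift h d ≫ upair K θ = lift h (𝟙 X) ≫ fam K (T := X) (θ.hom.app (op X) (pt K d)) :=
    fun d => by
      rw [nat_iso, ← Category.assoc, lift_whiskerLeft, Category.id_comp]
      rfl
  rw [e, e, e, ← MonObj.comp_mul]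
  congr 1
  refine Eq.trans ?_ (fam_add K _ _)
  refine congrArg (fun z : (hom K G H).obj.obj (op X) => fam K z) ?_
  exact map_add (θ.hom.app (op X)).hom (pt K a) (pt K b)

/-- Conversely an isomorphism of `D` with the internal Hom gives a universal pairing. -/
theorem represents_of_iso {D : Over S} [GrpObj D] [IsCommMonObj D] (θ : pts K D ⟶ hom K G H) [IsIso θ] :
    AutFam.RepresentsHom G H D (upair K θ) := by
  refine ⟨isHomFamily_fam K _, ?_⟩
  intro T φ hφ
  obtain ⟨z, hz⟩ := (bijective_of_isIso K θ (op T)).2 (mk K φ hφ)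
  refine ⟨Additive.toMul z.down, ?_, ?_⟩
  · refine (nat_iso K θ T _).symm.trans ?_
    exact (congrArg (fun z : (hom K G H).obj.obj (op T) => fam K z) hz).trans (fam_mk K _ _)
  · intro a ha
    have h1 : θ.hom.app (op T) (pt K a) = θ.hom.app (op T) z := by
      rw [hz]
      refine fam_injective K (T := T) ?_
      exact (nat_iso K θ T a).trans (ha.trans (fam_mk K _ _).symm)
    exact congrArg (fun z : (pts K D).obj.obj (op T) => Additive.toMul z.down) ((bijective_of_isIso K θ (op T)).1 h1)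

/-- Representability of the internal Hom does not depend on the topology. -/
theorem exists_iso_of_iso (K' : Precoverage Scheme.{u}) [(QuotSh.J K' S).Subcanonical]
    {D : Over S} [GrpObj D] [IsCommMonObj D]
    (θ : pts K D ≅ hom K G H) : Nonempty (pts K' D ≅ hom K' G H) := by
  have h1 := represents_of_iso K θ.hom
  have h2 := upair_mul K θ.hom
  have := isIso_pairHom K' (upair K θ.hom) h1 h2
  exact ⟨asIso (pairHom K' (upair K θ.hom) h1.1 h2)⟩

/-- Restricting a section along a homomorphism `j : G' ⟶ G`. -/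
theorem fam_homShMap_left {G' : Over S} [GrpObj G'] [IsCommMonObj G'] (j : G' ⟶ G) [IsMonHom j] {T : Over S}
    (x : (hom K G H).obj.obj (op T)) :
    fam K (T := T) ((HomSh.homShMap (QuotSh.J K S) (ptsMap K j) (𝟙 (pts K H))).hom.app (op T) x) =
      j ▷ T ≫ fam K x := by
  have h := lift_fam K x (fst G' T ≫ j) (snd G' T)
  have e : lift (fst G' T ≫ j) (snd G' T) = j ▷ T := by ext1 <;> simp
  rw [← e]
  exact congrArg (fun z : (pts K H).obj.obj (op (G' ⊗ T)) => Additive.toMul z.down) h.symm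

end K311.Fam
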