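import Groth.Agent.Sga3B.Hens.Dict
import Groth.Agent.GmDual.K311.Fam
import Groth.Agent.GmDual.K778.CharDict
import Groth.Agent.GmDual.K778.GroupLift
import Mathlib.RingTheory.Bialgebra.TensorProduct

/-! Families of characters of `Spec B` parametrised by `Spec R` are group-like elements of `R ⊗ B` over `R`. -/

set_option autoImplicit false
universe u
open CategoryTheory MonoidalCategory CartesianMonoidalCategory MonObj GrpObj AlgebraicGeometry
open TensorProduct Opposite WithConv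

noncomputable section

namespace K311.FamGL

open Groth.Agent.Books.AffBridge Groth.Agent.Sga3B.Hens Groth.Agent.Sga3B.Hens.Dict K778.CharDict

variable {k : Type u} [CommRing k]

section alg

variable {B R D : Type u} [CommRing B] [CommRing R] [Algebra k R] [CommRing D] [Algebra k D] [Algebra R D]
  [IsScalarTower k R D]

theorem li_eq_ex [Algebra k B] (g : B →ₐ[k] D) (z : R ⊗[k] B) :
    li (IsScalarTower.toAlgHom k R D) g z = ex R g z := by
  induction z with
  | zero => rw [map_zero, map_zero]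
  | add x y hx hy => rw [map_add, map_add, hx, hy]
  | tmul r b => simp [li, ex]

theorem mul_apply_of_isGroupLike [Bialgebra k B] {u : R ⊗[k] B} (hu : IsGroupLikeElem R u)
    (f g : WithConv (B →ₐ[k] D)) : ex R (f * g).ofConv u = ex R f.ofConv u * ex R g.ofConv u := by
  rw [ex_conv]
  change (toConv (ex R f.ofConv) * toConv (ex R g.ofConv)) u = _
  rw [AlgHom.convMul_apply, hu.comul_eq_tmul_self]
  rfl

end alg

variable {B R : Type u} [CommRing B] [CommRing R] [Algebra k R]

/-- The function attached to a morphism `Spec B × Spec R ⟶ 𝔾_m`. -/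
def ug [Algebra k B] (φ : SpecOver k B ⊗ SpecOver k R ⟶ Red.Gm (Bs k)) : R ⊗[k] B := gmE (Dict.cmp k B R ≫ φ)

theorem ug_injective [Algebra k B] {φ ψ : SpecOver k B ⊗ SpecOver k R ⟶ Red.Gm (Bs k)} (h : ug φ = ug ψ) : φ = ψ := by
  have h1 := gmE_ext h
  rwa [cancel_epi] at h1

theorem gmE_lift [Algebra k B] (φ : SpecOver k B ⊗ SpecOver k R ⟶ Red.Gm (Bs k)) {D : Type u} [CommRing D]
    [Algebra k D] (f : B →ₐ[k] D) (h : R →ₐ[k] D) :
    (gmE (lift (specMap k f) (specMap k h) ≫ φ) : D) = li h f (ug φ) := by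
  rw [lift_specMap, Category.assoc, gmE_nat]
  rfl

theorem exists_of_unit [Algebra k B] (z : (R ⊗[k] B)ˣ) :
    ∃ φ : SpecOver k B ⊗ SpecOver k R ⟶ Red.Gm (Bs k), ug φ = z := by
  refine ⟨inv (Dict.cmp k B R) ≫ gmE.symm z, ?_⟩
  rw [ug, IsIso.hom_inv_id_assoc, MulEquiv.apply_symm_apply]

theorem isGroupLike_ug [HopfAlgebra k B] {φ : SpecOver k B ⊗ SpecOver k R ⟶ Red.Gm (Bs k)}
    (hφ : AutFam.IsHomFamily (SpecOver k B) (Red.Gm (Bs k)) φ) : IsGroupLikeElem R (ug φ) where
  counit_eq_one := by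
    have h1 : (1 : WithConv (R ⊗[k] B →ₐ[R] R)).ofConv = Bialgebra.counitAlgHom R (R ⊗[k] B) := by
      rw [AlgHom.convOne_def]
      ext x
      simp
    have h2 : ex R (1 : WithConv (B →ₐ[k] R)).ofConv = Bialgebra.counitAlgHom R (R ⊗[k] B) := by
      rw [AlgHom.convOne_def]
      ext x
      simp
    have h4 := K311.Fam.lift_one_comp hφ (𝟙 (SpecOver k R))
    rw [← specMap_one, ← specMap_id] at h4
    have h5 := congrArg (fun q => (gmE q : R)) h4
    simp only [map_one, Units.val_one] at h5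
    rw [gmE_lift] at h5
    have h6 := li_eq_ex (D := R) (1 : WithConv (B →ₐ[k] R)).ofConv (ug φ)
    rw [h2] at h6
    refine h6.symm.trans (Eq.trans ?_ h5)
    congr 2
  comul_eq_tmul_self := by
    let D := (R ⊗[k] B) ⊗[R] (R ⊗[k] B)
    let f : WithConv (B →ₐ[k] D) := toConv (res (Algebra.TensorProduct.includeLeft : R ⊗[k] B →ₐ[R] D))
    let g : WithConv (B →ₐ[k] D) := toConv (res (Algebra.TensorProduct.includeRight : R ⊗[k] B →ₐ[R] D))
    have h1 : ex R (f * g).ofConv = Bialgebra.comulAlgHom R (R ⊗[k] B) := by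
      rw [ex_conv, ofConv_toConv, ofConv_toConv, ex_res, ex_res, comulAlgHom_eq]
    have h2 := hφ (SpecOver k D) (specMap k f.ofConv) (specMap k g.ofConv)
      (specMap k (IsScalarTower.toAlgHom k R D))
    rw [← specMap_mul] at h2
    have h3 := congrArg (fun q => (gmE q : D)) h2
    simp only [map_mul, Units.val_mul] at h3
    rw [gmE_lift, gmE_lift, gmE_lift, li_eq_ex, li_eq_ex, li_eq_ex, h1, ofConv_toConv, ofConv_toConv, ex_res,
      ex_res] at h3
    refine h3.trans ?_
    change ((ug φ) ⊗ₜ[R] (1 : R ⊗[k] B)) * ((1 : R ⊗[k] B) ⊗ₜ[R] (ug φ)) = _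
    rw [Algebra.TensorProduct.tmul_mul_tmul, _root_.one_mul, _root_.mul_one]

theorem isHomFamily_of_isGroupLike [HopfAlgebra k B] {φ : SpecOver k B ⊗ SpecOver k R ⟶ Red.Gm (Bs k)}
    (h : IsGroupLikeElem R (ug φ)) : AutFam.IsHomFamily (SpecOver k B) (Red.Gm (Bs k)) φ := by
  have key : ∀ (D : Type u) [CommRing D] [Algebra k D] (f f' : B →ₐ[k] D) (t : R →ₐ[k] D),
      lift (specMap k f * specMap k f') (specMap k t) ≫ φ =
        (lift (specMap k f) (specMap k t) ≫ φ) * (lift (specMap k f') (specMap k t) ≫ φ) := by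
    intro D _ _ f f' t
    let : Algebra R D := t.toRingHom.toAlgebra
    have : IsScalarTower k R D := IsScalarTower.of_algebraMap_eq fun a => (t.commutes a).symm
    have ht : t = IsScalarTower.toAlgHom k R D := rfl
    have h1 := specMap_mul (k := k) (toConv f) (toConv f')
    rw [ofConv_toConv, ofConv_toConv] at h1
    rw [← h1]
    apply gmE_ext
    rw [map_mul, Units.val_mul, gmE_lift, gmE_lift, gmE_lift, ht, li_eq_ex, li_eq_ex, li_eq_ex,
      mul_apply_of_isGroupLike h]
  intro X g₁ g₂ t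
  obtain ⟨w, hw⟩ : ∃ w : X ⟶ SpecOver k ((R ⊗[k] B) ⊗[k] B),
      w ≫ Dict.cmp k B (R ⊗[k] B) = lift g₂ (lift g₁ t ≫ inv (Dict.cmp k B R)) :=
    ⟨lift g₂ (lift g₁ t ≫ inv (Dict.cmp k B R)) ≫ inv (Dict.cmp k B (R ⊗[k] B)), by simp⟩
  have h2 : w ≫ specMap k (Algebra.TensorProduct.includeRight : B →ₐ[k] (R ⊗[k] B) ⊗[k] B) = g₂ := by
    have := congrArg (· ≫ fst _ _) hw
    simpa [Dict.cmp] using this
  have h3 : w ≫ specMap k (Algebra.TensorProduct.includeLeft : R ⊗[k] B →ₐ[k] (R ⊗[k] B) ⊗[k] B) ≫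
      Dict.cmp k B R = lift g₁ t := by
    have := congrArg (· ≫ snd _ _) hw
    simp only [Category.assoc, lift_snd] at this
    rw [Dict.cmp, lift_snd] at this
    rw [← Category.assoc, this, Category.assoc, IsIso.inv_hom_id, Category.comp_id]
  have h4 : w ≫ specMap k ((Algebra.TensorProduct.includeLeft : R ⊗[k] B →ₐ[k] (R ⊗[k] B) ⊗[k] B).comp
      Algebra.TensorProduct.includeRight) = g₁ := by
    have := congrArg (· ≫ fst _ _) h3
    simpa [Dict.cmp, specMap_comp] using this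
  have h5 : w ≫ specMap k ((Algebra.TensorProduct.includeLeft : R ⊗[k] B →ₐ[k] (R ⊗[k] B) ⊗[k] B).comp
      Algebra.TensorProduct.includeLeft) = t := by
    have := congrArg (· ≫ snd _ _) h3
    simpa [Dict.cmp, specMap_comp] using this
  rw [← h2, ← h4, ← h5, ← MonObj.comp_mul, ← comp_lift, ← comp_lift, ← comp_lift, Category.assoc, key,
    MonObj.comp_mul, Category.assoc, Category.assoc]

theorem exists_family [HopfAlgebra k B] {z : R ⊗[k] B} (hz : IsGroupLikeElem R z) :
    ∃ φ : SpecOver k B ⊗ SpecOver k R ⟶ Red.Gm (Bs k),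
      AutFam.IsHomFamily (SpecOver k B) (Red.Gm (Bs k)) φ ∧ ug φ = z := by
  obtain ⟨φ, hφ⟩ := exists_of_unit (GroupLike.toUnits (R := R) (A := R ⊗[k] B) ⟨z, hz⟩)
  have hφ' : ug φ = z := hφ
  exact ⟨φ, isHomFamily_of_isGroupLike (by rw [hφ']; exact hz), hφ'⟩

/-- Naturality in the group. -/
theorem ug_whiskerRight {A : Type u} [CommRing A] [Algebra k A] [Algebra k B] (f : A →ₐ[k] B)
    (φ : SpecOver k A ⊗ SpecOver k R ⟶ Red.Gm (Bs k)) :
    ug (specMap k f ▷ SpecOver k R ≫ φ) = Algebra.TensorProduct.map (AlgHom.id k R) f (ug φ) := by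
  have h : Dict.cmp k B R ≫ specMap k f ▷ SpecOver k R =
      specMap k (Algebra.TensorProduct.map (AlgHom.id k R) f) ≫ Dict.cmp k A R := by
    have : Algebra.TensorProduct.map (AlgHom.id k R) f =
        li (Algebra.TensorProduct.includeLeft : R →ₐ[k] R ⊗[k] B) (Algebra.TensorProduct.includeRight.comp f) := by
      ext c <;> simp [li]
    rw [this, ← lift_specMap, Dict.cmp, lift_whiskerRight, specMap_comp]
  rw [ug, ← Category.assoc, h, Category.assoc, gmE_nat]
  rfl

end K311.FamGL
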