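import Groth.Agent.SGA3x.K6.DualMT
import Groth.Agent.SGA3x.K6.TwConstClopen
import Groth.Agent.Sga3B.TorusEtLoc920

/-! The character functor of a torus is represented by an étale scheme. -/

set_option autoImplicit false
universe u

open CategoryTheory CategoryTheory.Limits AlgebraicGeometry Opposite MonoidalCategory CartesianMonoidalCategory

namespace K311.TorDual

theorem exists_dual {S : Scheme.{u}} (T : Over S) [GrpObj T] (hT : Red.IsTorus T) :
    ∃ (D : Over S) (υ : T ⊗ D ⟶ Red.Gm S), AutFam.RepresentsHom T (Red.Gm S) D υ ∧ Etale D.hom := by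
  obtain ⟨D, _, υ, hυ, -, hD⟩ := K6.DualMT.exists_dual (H := T) ℤ (fun s => by
    obtain ⟨B, _, v, r, hv, hs, hr⟩ := Groth.Agent.Sga3B.TorusEtLoc920.exists_etale_split T hT s
    exact ⟨_, v, hv, hs, Fin r → ℤ, inferInstance, hr⟩)
  refine ⟨D, υ, hυ, K6.TwConstClopen.etale_of_isTwConst D ?_⟩
  intro s
  obtain ⟨S', f, hf, hs, M, _, e, -⟩ := hD s
  exact ⟨S', f, hf, hs, M, ⟨e⟩⟩

end K311.TorDual
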