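import Groth.Agent.GmDual.K311.DualEx
import Groth.Agent.GmDual.K311.FamRep
import Groth.Agent.GmDual.K311.CharExt
import Groth.Agent.GmDual.K311.CoverEt
import Groth.Agent.GmDual.K311.TorDual
import Groth.Agent.SGA3x.K20.HomGrp
import Groth.Agent.CGrpSh.K731.ExtRep
import Groth.Agent.Desc.MorDescent
import Groth.Agent.Sga3B.TorusAlgClosed
import Groth.Agent.Books.AffBridge2

/-! The dual of an almost-torus over a field is representable. -/

set_option autoImplicit false
universe u

open CategoryTheory CategoryTheory.Limits AlgebraicGeometry Opposite MonoidalCategory CartesianMonoidalCategory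
open CGrpSh MonObj

namespace K311.Main

open K829.Yon K311.Fam HomSh K453.HomShEx

variable {k : Type u} [Field k]

theorem isClosedImmersion_of_isKernel {S : Scheme.{u}} {T G Q : Over S} [GrpObj Q] [IsSeparated Q.hom] (j : T ⟶ G)
    (q : G ⟶ Q) (h : AlgGrp.IsKernel j q) : IsClosedImmersion j.left := by
  have h1 := Groth.Agent.Books.AffBridge2.left_of_isPullback h
  have h2 : IsClosedImmersion (η[Q] : 𝟙_ (Over S) ⟶ Q).left := by
    have h3 : (η[Q] : 𝟙_ (Over S) ⟶ Q).left ≫ Q.hom = 𝟙 S := Over.w _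
    have h4 : IsClosedImmersion ((η[Q] : 𝟙_ (Over S) ⟶ Q).left ≫ Q.hom) := by
      rw [h3]
      exact inferInstanceAs (IsClosedImmersion (𝟙 S))
    exact IsClosedImmersion.of_comp _ Q.hom
  exact MorphismProperty.of_isPullback h1.flip h2

/-- The restriction of characters from `G` to a closed subgroup `T` is an epimorphism of fpqc sheaves, if the
characters of `T` are represented by an étale scheme. -/
theorem epi_restrict (G T : Over (Spec (CommRingCat.of k))) [GrpObj G] [IsCommMonObj G] [GrpObj T] [IsCommMonObj T]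
    [IsAffine G.left] [IsAffine T.left] (j : T ⟶ G) [IsMonHom j] [IsClosedImmersion j.left]
    (D : Over (Spec (CommRingCat.of k))) [GrpObj D] [IsCommMonObj D] [Etale D.hom]
    (θ : pts Scheme.fpqcPrecoverage D ≅ hom Scheme.fpqcPrecoverage T (Red.Gm (Spec (CommRingCat.of k)))) :
    Epi (homShMap (QuotSh.J Scheme.fpqcPrecoverage (Spec (CommRingCat.of k)))
      (ptsMap Scheme.fpqcPrecoverage j) (𝟙 (pts Scheme.fpqcPrecoverage (Red.Gm (Spec (CommRingCat.of k))))) ≫ θ.inv) := by
  refine K311.DualEx.epi_of_universal _ (K311.CoverEt.ofArrows_mem D.hom) ?_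
  rintro Y _ ⟨x⟩
  let Z : Over (Spec (CommRingCat.of k)) := Over.mk (K311.CoverEt.gpt D.left x ≫ D.hom)
  let c : Z ⟶ D := Over.homMk (K311.CoverEt.gpt D.left x)
  let s := θ.hom.hom.app (op Z) (pt Scheme.fpqcPrecoverage c)
  obtain ⟨ψ, hψ, hψs⟩ := K311.CharExt.exists_ext G T j _ (K311.CoverEt.gpt D.left x ≫ D.hom)
    (fam Scheme.fpqcPrecoverage (T := Z) s) (isHomFamily_fam _ _)
  refine ⟨mk Scheme.fpqcPrecoverage ψ hψ, ?_⟩
  have h1 : (homShMap (QuotSh.J Scheme.fpqcPrecoverage (Spec (CommRingCat.of k)))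
      (ptsMap Scheme.fpqcPrecoverage j) (𝟙 (pts Scheme.fpqcPrecoverage (Red.Gm (Spec (CommRingCat.of k)))))).hom.app
      (op Z) (mk Scheme.fpqcPrecoverage ψ hψ) = s := by
    apply fam_injective Scheme.fpqcPrecoverage (T := Z)
    refine (fam_homShMap_left Scheme.fpqcPrecoverage j (T := Z) (mk Scheme.fpqcPrecoverage ψ hψ)).trans ?_
    rw [fam_mk]
    exact hψs
  have h2 : θ.inv.hom.app (op Z) s = pt Scheme.fpqcPrecoverage c := by
    have h3 : (θ.hom ≫ θ.inv).hom.app (op Z) (pt Scheme.fpqcPrecoverage c) = pt Scheme.fpqcPrecoverage c := by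
      rw [θ.hom_inv_id]
      rfl
    exact h3
  exact (congrArg (θ.inv.hom.app (op Z)) h1).trans h2

theorem lfp_of_isLocallyNoetherian {X Y : Scheme.{u}} (f : X ⟶ Y) [IsLocallyNoetherian Y]
    [LocallyOfFiniteType f] : LocallyOfFinitePresentation f where
  finitePresentation_appLE {U} hU {V} hV e := by
    have : IsNoetherianRing Γ(Y, U) := IsLocallyNoetherian.component_noetherian ⟨U, hU⟩
    exact RingHom.FinitePresentation.of_finiteType.1 (f.finiteType_appLE hU hV e)

set_option backward.isDefEq.respectTransparency.types false in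
theorem isAffineHom_gm (S : Scheme.{u}) : IsAffineHom (Red.Gm S).hom := by
  have h1 : IsAffineHom (Red.diag (ULift.{u} ℤ) ℤ).hom :=
    inferInstanceAs (IsAffineHom (Spec.map (CommRingCat.ofHom
      (algebraMap (ULift.{u} ℤ) (MonoidAlgebra (ULift.{u} ℤ) (Multiplicative ℤ))))))
  exact MorphismProperty.pullback_snd _ _ h1

set_option backward.isDefEq.respectTransparency.types false in
theorem locallyOfFiniteType_gm (S : Scheme.{u}) : LocallyOfFiniteType (Red.Gm S).hom := by
  have h1 : LocallyOfFiniteType (Red.diag (ULift.{u} ℤ) ℤ).hom := by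
    change LocallyOfFiniteType (Spec.map (CommRingCat.ofHom
      (algebraMap (ULift.{u} ℤ) (MonoidAlgebra (ULift.{u} ℤ) (Multiplicative ℤ)))))
    rw [HasRingHomProperty.Spec_iff (P := @LocallyOfFiniteType)]
    have h2 : Algebra.FiniteType (ULift.{u} ℤ) (MonoidAlgebra (ULift.{u} ℤ) (Multiplicative ℤ)) :=
      inferInstance
    exact RingHom.finiteType_algebraMap.2 h2
  exact MorphismProperty.pullback_snd _ _ h1

/-- The dual of an extension of a finite group by a group whose dual is étale, over a field. -/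
theorem exists_rep (G : Over (Spec (CommRingCat.of k))) [GrpObj G] [IsCommMonObj G] [IsAffine G.left]
    (T Q : Over (Spec (CommRingCat.of k))) [GrpObj T] [IsCommMonObj T] [GrpObj Q] [IsCommMonObj Q]
    (j : T ⟶ G) (q : G ⟶ Q) [IsMonHom j] [IsMonHom q] [IsAffine T.left]
    (hker : AlgGrp.IsKernel j q) [Flat q.left] [Surjective q.left] [IsFinite Q.hom]
    (DT : Over (Spec (CommRingCat.of k))) (υT : T ⊗ DT ⟶ Red.Gm (Spec (CommRingCat.of k)))
    (hDT : AutFam.RepresentsHom T (Red.Gm (Spec (CommRingCat.of k))) DT υT) [Etale DT.hom] :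
    ∃ (D : Over (Spec (CommRingCat.of k))) (_ : GrpObj D) (_ : IsCommMonObj D), LocallyOfFiniteType D.hom ∧
      Nonempty (pts Scheme.fpqcPrecoverage D ≅ hom Scheme.fpqcPrecoverage G (Red.Gm (Spec (CommRingCat.of k)))) := by
  have hQa : IsAffine Q.left := isAffine_of_isAffineHom Q.hom
  have hjc : IsClosedImmersion j.left := isClosedImmersion_of_isKernel j q hker
  have hqc : QuasiCompact q.left := inferInstance
  have hGma : IsAffineHom (Red.Gm (Spec (CommRingCat.of k))).hom := isAffineHom_gm _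
  have hGmf : LocallyOfFiniteType (Red.Gm (Spec (CommRingCat.of k))).hom := locallyOfFiniteType_gm _
  have hQflat : Flat Q.hom := inferInstance
  have hN : IsLocallyNoetherian (Spec (CommRingCat.of k)) := inferInstance
  have hQlfp : LocallyOfFinitePresentation Q.hom := lfp_of_isLocallyNoetherian _
  obtain ⟨A, υA, hA, hAa, hAf, -⟩ := K20.HomGrp.exists_representsHom Q (Red.Gm (Spec (CommRingCat.of k)))
  have hAft := hAf hGmf
  obtain ⟨gA, cA, θA, -⟩ := K311.FamRep.exists_grp Scheme.fpqcPrecoverage υA hA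
  obtain ⟨gDT, cDT, θT, -⟩ := K311.FamRep.exists_grp Scheme.fpqcPrecoverage υT hDT
  have w0 : j ≫ q = 1 := by rw [hker.w, Hom.one_def]
  have hex0 := K311.DualEx.shortExact_of_isKernel j q hker w0
  have hepi0 : Epi (CGrpSh.seq Scheme.fpqcPrecoverage j q w0).g := hex0.epi_g
  let M := pts Scheme.fpqcPrecoverage (Red.Gm (Spec (CommRingCat.of k)))
  let J := QuotSh.J Scheme.fpqcPrecoverage (Spec (CommRingCat.of k))
  have hex1 := exact_homSh_left M _ hex0.exact
  have hmono1 : Mono (homShMap J (ptsMap Scheme.fpqcPrecoverage q) (𝟙 M)) :=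
    mono_homShMap_left M (CGrpSh.seq Scheme.fpqcPrecoverage j q w0).g
  let a : pts Scheme.fpqcPrecoverage A ⟶ homSh J (pts Scheme.fpqcPrecoverage G) M :=
    θA.hom ≫ homShMap J (ptsMap Scheme.fpqcPrecoverage q) (𝟙 M)
  let b : homSh J (pts Scheme.fpqcPrecoverage G) M ⟶ pts Scheme.fpqcPrecoverage DT :=
    homShMap J (ptsMap Scheme.fpqcPrecoverage j) (𝟙 M) ≫ θT.inv
  have wz : homShMap J (ptsMap Scheme.fpqcPrecoverage q) (𝟙 M) ≫ homShMap J (ptsMap Scheme.fpqcPrecoverage j) (𝟙 M)
      = 0 := homShMap_zero_comp _ _ (CGrpSh.seq Scheme.fpqcPrecoverage j q w0).zero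
  have w : a ≫ b = 0 := by
    change (θA.hom ≫ homShMap J (ptsMap Scheme.fpqcPrecoverage q) (𝟙 M)) ≫
      homShMap J (ptsMap Scheme.fpqcPrecoverage j) (𝟙 M) ≫ θT.inv = 0
    rw [Category.assoc, reassoc_of% wz, zero_comp, comp_zero]
  let α : ShortComplex.mk a b w ≅ ShortComplex.mk _ _ wz :=
    ShortComplex.isoMk θA (Iso.refl _) θT (Category.comp_id _).symm (by
      change 𝟙 _ ≫ _ = (homShMap J (ptsMap Scheme.fpqcPrecoverage j) (𝟙 M) ≫ θT.inv) ≫ θT.hom
      rw [Category.assoc, θT.inv_hom_id, Category.comp_id, Category.id_comp])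
  have hm : Mono a := mono_comp _ _
  have he : Epi b := epi_restrict G T j DT θT
  have hex : (ShortComplex.mk a b w).ShortExact := ShortComplex.ShortExact.mk' ((ShortComplex.exact_iff_of_iso α).mpr hex1) hm he
  have := K731.ExtRep.small_fib_of_exact a b w hex.exact
  have hdesc := Groth.Agent.Desc.MorDescent.descendsAlong_isAffineHom.{u}
  obtain ⟨E, ⟨hE1, hE2⟩, ⟨r⟩⟩ := K731.ExtRep.exists_rep a b w hex (@IsAffineHom ⊓ @LocallyOfFiniteType)
    ⟨inferInstance, inferInstance⟩
  obtain ⟨g, g', i, -⟩ := K731.RepPts.exists_grpObj _ (Over.mk (E.hom ≫ DT.hom))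
    (fun T => Equiv.ofBijective _ (K731.FibRep.eFun_bijective r T))
    (fun f x => K731.FibRep.eFun_comp r f x)
  have hl : LocallyOfFiniteType E.hom := hE2
  exact ⟨_, g, g', inferInstanceAs (LocallyOfFiniteType (E.hom ≫ DT.hom)), ⟨i⟩⟩

/-- The dual of an almost-torus over a field is representable by a group scheme locally of finite type. -/
theorem exists_rep_torus (G : Over (Spec (CommRingCat.of k))) [GrpObj G] [IsCommMonObj G] [IsAffine G.left]
    (T Q : Over (Spec (CommRingCat.of k))) [GrpObj T] [GrpObj Q] (j : T ⟶ G) (q : G ⟶ Q) [IsMonHom j] [IsMonHom q]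
    (hmono : Mono j) (hT : Red.IsTorus T) (hker : AlgGrp.IsKernel j q) [Flat q.left] [Surjective q.left]
    [IsFinite Q.hom] :
    ∃ (D : Over (Spec (CommRingCat.of k))) (_ : GrpObj D) (_ : IsCommMonObj D), LocallyOfFiniteType D.hom ∧
      Nonempty (CGrpSh.pts Scheme.fppfPrecoverage D ≅
        CGrpSh2.dualSh Scheme.fppfPrecoverage (CGrpSh.pts Scheme.fppfPrecoverage G)) := by
  have hQc : IsCommMonObj Q := K311.DualEx.isCommMonObj_of_flat q
  have hTc : IsCommMonObj T := K778.CharDict.isCommMonObj_of_mono j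
  have hTa' : IsAffineHom T.hom := Groth.Agent.Sga3B.TorusAlgClosed.isAffineHom_of_isTorus hT
  have hTa : IsAffine T.left := isAffine_of_isAffineHom T.hom
  obtain ⟨DT, υT, hDT, hDTe⟩ := K311.TorDual.exists_dual T hT
  obtain ⟨D, gD, cD, hD, ⟨θ⟩⟩ := exists_rep G T Q j q hker DT υT hDT
  exact ⟨D, gD, cD, hD, exists_iso_of_iso Scheme.fpqcPrecoverage Scheme.fppfPrecoverage θ⟩

end K311.Main
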